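import Groth.Agent.Pi1X.FEtFiberFunctor
import Groth.Agent.H23.CoverPush
import Mathlib.RingTheory.Etale.Field
import Mathlib.LinearAlgebra.Dimension.Constructions

/-!
The geometric fibres of a finite étale cover of degree `n` have `n` elements.
-/

universe u

open CategoryTheory CategoryTheory.Limits AlgebraicGeometry
open scoped TensorProduct

set_option linter.style.haveILetI false
set_option backward.isDefEq.respectTransparency false

namespace Groth.Agent.Pi1X

noncomputable section

/-- A finite étale algebra over an algebraically closed field has as many points as its degree. -/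
theorem card_points_eq_finrank (k C : Type u) [Field k] [IsAlgClosed k] [CommRing C] [Algebra k C]
    [Module.Finite k C] [Algebra.Etale k C] : Nat.card (C →ₐ[k] k) = Module.finrank k C := by
  classical
  let e := Algebra.FormallyEtale.equivPiOfIsSepClosed k C
  have : IsArtinianRing C := isArtinian_of_tower k inferInstance
  have : Finite (PrimeSpectrum C) := inferInstance
  let := Fintype.ofFinite (PrimeSpectrum C)
  let E : PrimeSpectrum C ≃ ((PrimeSpectrum C → k) →ₐ[k] k) :=
    Equiv.ofBijective (fun p => Pi.evalAlgHom k (fun _ => k) p) ⟨fun p q h => by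
      by_contra hne
      have := AlgHom.congr_fun h (Pi.single p 1)
      simp [Pi.single_eq_same, Ne.symm hne] at this, fun φ => by
      have h1 : ∑ i, φ (Pi.single i 1) = 1 := by
        rw [← map_sum, Finset.univ_sum_single (fun _ => (1 : k))]; exact map_one φ
      obtain ⟨i, hi⟩ : ∃ i, φ (Pi.single i 1) ≠ 0 := by
        by_contra hall
        push Not at hall
        simp [hall] at h1
      refine ⟨i, AlgHom.ext fun f => mul_right_cancel₀ hi ?_⟩
      rw [← map_mul]
      have h2 : f * Pi.single i (1 : k) = f i • Pi.single i (1 : k) := by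
        funext j; by_cases hj : j = i <;> simp [hj]
      rw [h2, map_smul, smul_eq_mul]
      rfl⟩
  rw [Nat.card_congr ((e.arrowCongr AlgEquiv.refl).trans E.symm), e.toLinearEquiv.finrank_eq,
    Module.finrank_pi, Nat.card_eq_fintype_card]

/-- Points of a finite étale algebra free of rank `n` with values in an algebraically closed field. -/
theorem card_algHom_of_free (A B Ω : Type u) [CommRing A] [CommRing B] [Algebra A B] [Field Ω]
    [IsAlgClosed Ω] [Algebra A Ω] [Algebra.Etale A B] [Module.Free A B] [Module.Finite A B] :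
    Nat.card (B →ₐ[A] Ω) = Module.finrank A B := by
  have h := card_points_eq_finrank Ω (Ω ⊗[A] B)
  haveI : Nontrivial A := (algebraMap A Ω).domain_nontrivial
  rw [Module.finrank_baseChange] at h
  rw [← h]
  exact Nat.card_congr
    { toFun := fun g => Algebra.TensorProduct.lift (Algebra.ofId Ω Ω) g (fun _ _ => Commute.all _ _)
      invFun := fun χ => (χ.restrictScalars A).comp Algebra.TensorProduct.includeRight
      left_inv := fun g => AlgHom.ext fun b => by simp
      right_inv := fun χ => Algebra.TensorProduct.ext (Subsingleton.elim _ _) (AlgHom.ext fun b => by simp) }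

/-- The geometric fibres of a finite étale morphism of degree `n` have `n` elements. -/
theorem card_lifts_eq {X Y : Scheme.{u}} (f : X ⟶ Y) [IsFinite f] [Etale f] {n : ℕ}
    (hdeg : FlatMod.IsFinLocFreeOfRank n ((Scheme.Modules.pushforward f).obj (Coh.structureModule X)))
    {Ω : Type u} [Field Ω] [IsAlgClosed Ω] (ξ : Spec (CommRingCat.of Ω) ⟶ Y) :
    Nat.card {s : Spec (CommRingCat.of Ω) ⟶ X // s ≫ f = ξ} = n := by
  obtain ⟨U, hU, hξ, l⟩ := H23.CoverPush.crit_of_isFinLocFreeOfRank_push f hdeg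
    (ξ.base (IsLocalRing.closedPoint Ω))
  letI := baseAlg ξ hξ
  letI := secAlg f U
  obtain ⟨e⟩ := l
  haveI : Module.Free Γ(Y, U) Γ(X, f ⁻¹ᵁ U) := Module.Free.of_equiv e.symm
  haveI : Module.Finite Γ(Y, U) Γ(X, f ⁻¹ᵁ U) := Module.Finite.equiv e.symm
  haveI : Algebra.Etale Γ(Y, U) Γ(X, f ⁻¹ᵁ U) := by
    have h : (f.app U).hom.Etale := by
      rw [Scheme.Hom.app_eq_appLE]
      exact HasRingHomProperty.appLE @Etale f inferInstance ⟨U, hU⟩ ⟨_, hU.preimage f⟩ le_rfl
    exact h.toAlgebra
  haveI : Nontrivial Γ(Y, U) := (algebraMap Γ(Y, U) Ω).domain_nontrivial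
  refine (Nat.card_congr (Equiv.ofBijective _ (toSecPt_bijective ξ hU hξ (h := f)))).trans ?_
  refine (card_algHom_of_free Γ(Y, U) Γ(X, f ⁻¹ᵁ U) Ω).trans ?_
  rw [e.finrank_eq]
  simp

end

end Groth.Agent.Pi1X

namespace Groth.Agent.Pi1X

noncomputable section

/-- The geometric fibres of a finite étale morphism are counted by its rank function. -/
theorem card_lifts_eq_finrank {X Y : Scheme.{u}} (f : X ⟶ Y) [IsFinite f] [Etale f]
    {Ω : Type u} [Field Ω] [IsAlgClosed Ω] (ξ : Spec (CommRingCat.of Ω) ⟶ Y) :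
    Nat.card {s : Spec (CommRingCat.of Ω) ⟶ X // s ≫ f = ξ} =
      f.finrank (ξ.base (IsLocalRing.closedPoint Ω)) := by
  obtain ⟨U, hU, hξ, -⟩ :=
    exists_isAffineOpen_mem_and_subset (x := ξ.base (IsLocalRing.closedPoint Ω)) (U := ⊤) trivial
  letI := baseAlg ξ hξ
  letI := secAlg f U
  haveI : Algebra.Etale Γ(Y, U) Γ(X, f ⁻¹ᵁ U) := by
    have h : (f.app U).hom.Etale := by
      rw [Scheme.Hom.app_eq_appLE]
      exact HasRingHomProperty.appLE @Etale f inferInstance ⟨U, hU⟩ ⟨_, hU.preimage f⟩ le_rfl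
    exact h.toAlgebra
  haveI : Module.Finite Γ(Y, U) Γ(X, f ⁻¹ᵁ U) :=
    RingHom.finite_algebraMap.1 (IsFinite.finite_app (f := f) U hU)
  haveI : Module.FinitePresentation Γ(Y, U) Γ(X, f ⁻¹ᵁ U) :=
    Module.FinitePresentation.of_finite_of_finitePresentation _ _
  haveI : Module.Projective Γ(Y, U) Γ(X, f ⁻¹ᵁ U) := Module.Flat.projective_of_finitePresentation
  refine (Nat.card_congr (Equiv.ofBijective _ (toSecPt_bijective ξ hU hξ (h := f)))).trans ?_
  have h := card_points_eq_finrank Ω (Ω ⊗[Γ(Y, U)] Γ(X, f ⁻¹ᵁ U))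
  have hr : Module.rankAtStalk (R := Ω) (Ω ⊗[Γ(Y, U)] Γ(X, f ⁻¹ᵁ U)) ⟨⊥, Ideal.isPrime_bot⟩ =
      Module.finrank Ω (Ω ⊗[Γ(Y, U)] Γ(X, f ⁻¹ᵁ U)) := by
    rw [Module.rankAtStalk_eq_finrank_of_free]
    rfl
  rw [← hr, Module.rankAtStalk_baseChange] at h
  rw [H23.CoverPush.finrank_eq f hU hξ]
  have hq : PrimeSpectrum.comap (algebraMap Γ(Y, U) Ω) ⟨⊥, Ideal.isPrime_bot⟩ =
      hU.primeIdealOf ⟨_, hξ⟩ := by
    apply hU.fromSpec.isOpenEmbedding.injective
    refine Eq.trans ?_ (hU.fromSpec_primeIdealOf ⟨_, hξ⟩).symm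
    refine Eq.trans ?_ (congrArg (fun (s : Spec (CommRingCat.of Ω) ⟶ Y) => s.base (IsLocalRing.closedPoint Ω))
      (RelSpecX.spec_hom_eq ξ hU (top_le_preimage_base ξ hξ)).symm)
    dsimp only
    rw [Scheme.Hom.comp_apply]
    congr 1
    refine PrimeSpectrum.ext ?_
    show _ = Ideal.comap _ (IsLocalRing.maximalIdeal Ω)
    rw [IsLocalRing.maximalIdeal_eq_bot]
    rfl
  rw [hq] at h
  rw [← h]
  exact Nat.card_congr
    { toFun := fun g => Algebra.TensorProduct.lift (Algebra.ofId Ω Ω) g (fun _ _ => Commute.all _ _)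
      invFun := fun χ => (χ.restrictScalars Γ(Y, U)).comp Algebra.TensorProduct.includeRight
      left_inv := fun g => AlgHom.ext fun b => by simp
      right_inv := fun χ => Algebra.TensorProduct.ext (Subsingleton.elim _ _) (AlgHom.ext fun b => by simp) }

/-- A finite étale morphism whose geometric fibres all have `n` elements has degree `n`. -/
theorem isFinLocFreeOfRank_of_card_lifts {X Y : Scheme.{u}} (f : X ⟶ Y) [IsFinite f] [Etale f] {n : ℕ}
    (h : ∀ (Ω : Type u) [Field Ω] [IsAlgClosed Ω] (ξ : Spec (CommRingCat.of Ω) ⟶ Y),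
      Nat.card {s : Spec (CommRingCat.of Ω) ⟶ X // s ≫ f = ξ} = n) :
    FlatMod.IsFinLocFreeOfRank n ((Scheme.Modules.pushforward f).obj (Coh.structureModule X)) :=
  H23.CoverPush.isFinLocFreeOfRank_push_of_isCover f
    ⟨⟨inferInstance, inferInstance, inferInstance⟩, fun y => by
      obtain ⟨Ω, _, _, ξ, hξ⟩ := exists_geometric_point y
      rw [← hξ, ← card_lifts_eq_finrank f ξ]
      exact h Ω ξ⟩

end

end Groth.Agent.Pi1X

namespace Groth.Agent.Pi1X

/-- The locus where two maps to a separated unramified scheme agree, tested on connected sources. -/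
theorem exists_isClopen_eqLocus_iff {X Y S : Scheme.{u}} (p : Y ⟶ S) [IsSeparated p]
    [FormallyUnramified p] [LocallyOfFiniteType p] (f g : X ⟶ Y) (h : f ≫ p = g ≫ p) :
    ∃ W : Set X, IsClopen W ∧ ∀ {T : Scheme.{u}} [Nonempty T] (z : T ⟶ X) [PreconnectedSpace T],
      (∀ t : T, z t ∈ W) ↔ z ≫ f = z ≫ g := by
  let X' : Over S := Over.mk (f ≫ p)
  let Y' : Over S := Over.mk p
  let f' : X' ⟶ Y' := Over.homMk f
  let g' : X' ⟶ Y' := Over.homMk g
  haveI : IsSeparated Y'.hom := ‹_›
  haveI : FormallyUnramified Y'.hom := ‹_›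
  haveI : LocallyOfFiniteType Y'.hom := ‹_›
  haveI := isOpenImmersion_equalizer_ι_left f' g'
  refine ⟨Set.range (equalizer.ι f' g').left.base,
    ⟨(Scheme.Hom.isClosedEmbedding _).isClosed_range,
      (Scheme.Hom.isOpenEmbedding (equalizer.ι f' g').left).isOpen_range⟩,
    fun {T} _ z _ => ⟨fun hz => ?_, fun hz t => ?_⟩⟩
  · have hr : Set.range z.base ⊆ Set.range (equalizer.ι f' g').left.base := by
      rintro _ ⟨t, rfl⟩; exact hz t
    have he : (equalizer.ι f' g').left ≫ f = (equalizer.ι f' g').left ≫ g :=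
      congr($(equalizer.condition f' g').left)
    rw [← IsOpenImmersion.lift_fac (equalizer.ι f' g').left z hr, Category.assoc, he, Category.assoc]
  · let T' : Over S := Over.mk (z ≫ f ≫ p)
    let z' : T' ⟶ X' := Over.homMk z
    have hz' : z' ≫ f' = z' ≫ g' := by ext1; exact hz
    refine ⟨(equalizer.lift z' hz').left t, ?_⟩
    rw [← Scheme.Hom.comp_apply, ← Over.comp_left, equalizer.lift_ι]
    rfl

end Groth.Agent.Pi1X
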